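import Groth.Agent.CohDer1.TorKoszul.Resolution
import Groth.Agent.CAlgH.KindBasic
import Groth.Agent.QReg6.Regular
import Groth.Agent.SDiv28.KoszulH1
import Groth.Agent.SDiv28.RegSeq
import Groth.Agent.CAlgSmall.Tor

/-! Tor of powers of an ideal generated by a Koszul-regular sequence. -/

set_option autoImplicit false
set_option backward.isDefEq.respectTransparency false

universe u

open CategoryTheory CategoryTheory.Limits TensorProduct Function

namespace Groth.Agent.CohDer1.TorKoszul

variable {A : Type u} [CommRing A] {c : ℕ} (f : Fin c → A) (d : ℕ)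

local notation "J" => Ideal.span (Set.range f)

/-- The graded piece. -/
abbrev Gr : Type u := ↥(J ^ d) ⧸ Submodule.comap (Submodule.subtype (J ^ d)) (J ^ (d + 1))

lemma mon_mem (e : CAlgH.KindBasic.Mon c d) : CAlgH.KindBasic.mon f e ∈ J ^ d := by
  have he := (CAlgH.KindBasic.mem_mon e.1).1 e.2
  refine (congrArg (fun k => CAlgH.KindBasic.mon f e ∈ J ^ k) he).mp ?_
  beta_reduce
  rw [Finsupp.degree_eq_sum, ← Finset.prod_pow_eq_pow_sum]
  exact Ideal.prod_mem_prod fun i _ => Ideal.pow_mem_pow (Ideal.subset_span (Set.mem_range_self i)) _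

/-- Combinations of monomials. -/
noncomputable def monMap : (CAlgH.KindBasic.Mon c d → A) →ₗ[A] Gr f d :=
  (Submodule.mkQ _) ∘ₗ Fintype.linearCombination A (M := ↥(J ^ d)) fun (e : CAlgH.KindBasic.Mon c d) => (⟨CAlgH.KindBasic.mon f e, mon_mem f d e⟩ : ↥(J ^ d))

lemma monMap_surjective : Surjective (monMap f d) := by
  classical
  refine (Submodule.mkQ_surjective _).comp fun x => ?_
  obtain ⟨P, hP, hx⟩ := QReg6.exists_homogeneous_eval f x.2
  refine ⟨fun e => P.coeff e.1, Subtype.ext ?_⟩
  rw [← hx, MvPolynomial.eval_eq', Fintype.linearCombination_apply, Submodule.coe_sum]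
  have hdeg : ∀ e, P.coeff e ≠ 0 → e.degree = d := fun e he => by
    rw [Finsupp.degree_eq_weight_one]
    exact hP he
  refine (Finset.sum_coe_sort (Finset.finsuppAntidiag (Finset.univ : Finset (Fin c)) d)
    (fun e => P.coeff e * ∏ i, f i ^ e i)).trans (Finset.sum_subset ?_ ?_).symm
  · exact fun e he => (CAlgH.KindBasic.mem_mon e).2 (hdeg e (MvPolynomial.mem_support_iff.1 he))
  · intro e _ he
    rw [MvPolynomial.notMem_support_iff.1 he, zero_mul]

lemma ker_monMap (hq : CAlgX.IsQuasiRegular f) :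
    LinearMap.ker (monMap f d) = Submodule.pi Set.univ (fun _ : CAlgH.KindBasic.Mon c d => (J : Submodule A A)) := by
  classical
  ext v
  rw [LinearMap.mem_ker, monMap, LinearMap.comp_apply, Submodule.mkQ_apply, Submodule.Quotient.mk_eq_zero,
    Submodule.mem_comap, Fintype.linearCombination_apply, Submodule.subtype_apply, Submodule.coe_sum]
  constructor
  · intro h e _
    exact (CAlgH.KindBasic.isQuasiRegular_iff_coefMem f).1 hq d v h e
  · intro h
    refine Submodule.sum_mem _ fun e _ => ?_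
    show v e * CAlgH.KindBasic.mon f e ∈ J ^ (d + 1)
    rw [pow_succ']
    exact Ideal.mul_mem_mul (h e trivial) (mon_mem f d e)

/-- The graded pieces are free over the quotient. -/
lemma nonempty_gr_equiv (hq : CAlgX.IsQuasiRegular f) :
    ∃ N : ℕ, Nonempty ((Fin N → A ⧸ J) ≃ₗ[A] Gr f d) := by
  classical
  exact ⟨_, ⟨(LinearEquiv.funCongrLeft A (A ⧸ J) (Fintype.equivFin (CAlgH.KindBasic.Mon c d))) ≪≫ₗ
    (Submodule.quotientPi (fun _ : CAlgH.KindBasic.Mon c d => (J : Submodule A A))).symm ≪≫ₗ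
    (Submodule.quotEquivOfEq _ _ (ker_monMap f d hq).symm) ≪≫ₗ
    (monMap f d).quotKerEquivOfSurjective (monMap_surjective f d)⟩⟩

variable {B : Type u} [CommRing B] [Algebra A B]

theorem isZero_tens_powers (hf : CAlgH.KoszulRegular.KReg f)
    (hf' : CAlgH.KoszulRegular.KReg fun i => algebraMap A B (f i)) : ∀ (d q : ℕ),
    IsZero (((HTor16.tens (ModuleCat.of A B)).leftDerived (q + 1)).obj (ModuleCat.of A ↥(J ^ d))) ∧
    IsZero (((HTor16.tens (ModuleCat.of A B)).leftDerived (q + 1)).obj (ModuleCat.of A (Gr f d))) := by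
  have hgr : ∀ d q, IsZero (((HTor16.tens (ModuleCat.of A B)).leftDerived (q + 1)).obj (ModuleCat.of A (Gr f d))) := by
    intro d q
    obtain ⟨N, ⟨e⟩⟩ := nonempty_gr_equiv f d
      (SDiv28.RegSeq.isQuasiRegular_of_isH1Regular f (SDiv28.RegSeq.isH1Regular_of_kreg hf))
    exact (CycLib28.isZero_tor_pi _ (A ⧸ J) q (isZero_tens_quot f hf hf' q) N).of_iso
      (Functor.mapIso _ e.symm.toModuleIso)
  intro d
  induction d with
  | zero =>
    refine fun q => ⟨?_, hgr 0 q⟩
    have hone : Ideal.span (Set.range f) ^ 0 = (⊤ : Ideal A) := by rw [pow_zero, Ideal.one_eq_top]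
    haveI : Projective (ModuleCat.of A A) := (IsProjective.iff_projective (R := A) A).1 inferInstance
    exact (Functor.isZero_leftDerived_obj_projective_succ _ q (ModuleCat.of A A)).of_iso
      (Functor.mapIso _ ((LinearEquiv.ofEq _ _ hone) ≪≫ₗ Submodule.topEquiv).toModuleIso)
  | succ d ih =>
    refine fun q => ⟨?_, hgr _ q⟩
    have hle : J ^ (d + 1) ≤ J ^ d := Ideal.pow_le_pow_right (Nat.le_succ d)
    have hS := LocCoh.shortExact_of (f := Submodule.inclusion hle)
      (g := Submodule.mkQ (Submodule.comap (Submodule.subtype (J ^ d)) (J ^ (d + 1))))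
      (Submodule.inclusion_injective hle) (Submodule.mkQ_surjective _)
      (LinearMap.exact_iff.2 (by rw [Submodule.ker_mkQ, Submodule.range_inclusion]))
    obtain ⟨⟨w, hw⟩, δ, w₁, w₂, e₁, e₂⟩ := CommAlg4.DerivedLES.les hS (HTor16.tens (ModuleCat.of A B)) (q + 1)
    exact e₂.isZero_of_both_zeros ((hgr d (q + 1)).eq_of_src _ _) ((ih q).1.eq_of_tgt _ _)

end Groth.Agent.CohDer1.TorKoszul
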