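import Groth.Agent.CAlgH.KoszulRegular
import Groth.Agent.CycLib28.SerreTor
import Groth.Agent.CycLib28.TorBase

/-! The Koszul resolution of the quotient by a Koszul-regular sequence, and its Tor groups. -/

set_option autoImplicit false
set_option backward.isDefEq.respectTransparency false

universe u

open CategoryTheory CategoryTheory.Limits TensorProduct Function
open Groth.Agent.Disc12.Koszul

namespace Groth.Agent.CohDer1.TorKoszul

variable {A : Type u} [CommRing A] {n : ℕ}

lemma e0_injective : Injective (e0 (R := A) (n := n)) := fun _ _ h =>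
  (ExteriorAlgebra.algebraMap_leftInverse (R := A) (Fin n → A)).injective (congrArg Subtype.val h)

/-- Degree zero of the Koszul complex is the ring. -/
noncomputable def e0Equiv : A ≃ₗ[A] K A n 0 := LinearEquiv.ofBijective e0 ⟨e0_injective, e0_surjective⟩

/-- The augmentation. -/
noncomputable def aug (f : Fin n → A) : K A n 0 →ₗ[A] A ⧸ Ideal.span (Set.range f) :=
  (Ideal.span (Set.range f)).mkQ ∘ₗ e0Equiv.symm.toLinearMap

lemma aug_surjective (f : Fin n → A) : Surjective (aug f) :=
  (Submodule.mkQ_surjective _).comp e0Equiv.symm.surjective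

lemma range_d_eq_ker_aug (f : Fin n → A) : LinearMap.range (d f 0) = LinearMap.ker (aug f) := by
  rw [range_d_zero, aug, LinearMap.ker_comp, Submodule.ker_mkQ]
  exact Submodule.map_equiv_eq_comap_symm e0Equiv _

/-- The Koszul resolution. -/
theorem exists_resolution (f : Fin n → A) (hf : CAlgH.KoszulRegular.KReg f) :
    ∃ P : ProjectiveResolution (ModuleCat.of A (A ⧸ Ideal.span (Set.range f))),
      P.complex = ChainComplex.of (fun p => ModuleCat.of A (K A n p)) (fun p => ModuleCat.ofHom (d f p))
        (fun p => ModuleCat.hom_ext (d_d f p)) := by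
  let C : ChainComplex (ModuleCat.{u} A) ℕ :=
    ChainComplex.of (fun p => ModuleCat.of A (K A n p)) (fun p => ModuleCat.ofHom (d f p))
      (fun p => ModuleCat.hom_ext (d_d f p))
  have hd : ∀ p, C.d (p + 1) p = ModuleCat.ofHom (d f p) := fun p =>
    ChainComplex.of_d (fun p => ModuleCat.of A (K A n p)) (fun p => ModuleCat.ofHom (d f p)) p
  have hq0 := range_d_eq_ker_aug f
  let π : C ⟶ (ChainComplex.single₀ (ModuleCat.{u} A)).obj (ModuleCat.of A (A ⧸ Ideal.span (Set.range f))) :=
    (ChainComplex.toSingle₀Equiv _ _).symm ⟨ModuleCat.ofHom (aug f), by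
      rw [hd 0]
      refine ModuleCat.hom_ext (LinearMap.ext fun x => ?_)
      exact hq0.le (LinearMap.mem_range_self (d f 0) x)⟩
  have hπ : π.f 0 = ModuleCat.ofHom (aug f) := ChainComplex.toSingle₀Equiv_symm_apply_f_zero _ _
  refine ⟨{
    complex := C
    projective := fun p => by
      haveI : Module.Free A (K A n p) := Module.Free.of_basis ((Pi.basisFun A (Fin n)).exteriorPower p)
      exact (IsProjective.iff_projective (R := A) (K A n p)).1 inferInstance
    π := π
    quasiIso := ⟨fun p => ?_⟩ }, rfl⟩
  cases p with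
  | zero =>
    rw [ChainComplex.quasiIsoAt₀_iff, ShortComplex.quasiIso_iff_of_zeros']
    · refine (ShortComplex.exact_and_epi_g_iff_of_iso
        (S₂ := ShortComplex.mk (C.d 1 0) (π.f 0) (by
          rw [hπ, hd 0]
          exact ModuleCat.hom_ext (LinearMap.ext fun x => hq0.le (LinearMap.mem_range_self (d f 0) x)))) ?_).2 ⟨?_, ?_⟩
      · exact ShortComplex.isoMk (Iso.refl _) (Iso.refl _) (Iso.refl _) (by simp) (by simp)
      · rw [ShortComplex.moduleCat_exact_iff_range_eq_ker]
        simp only [hπ, hd 0]
        exact hq0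
      · simp only [hπ]
        exact (ModuleCat.epi_iff_surjective _).2 (aug_surjective f)
    all_goals rfl
  | succ p =>
    rw [quasiIsoAt_iff_exactAt']
    · rw [HomologicalComplex.exactAt_iff' _ (p + 2) (p + 1) p (by simp) (by simp),
        ShortComplex.moduleCat_exact_iff_range_eq_ker]
      simp only [HomologicalComplex.sc', HomologicalComplex.shortComplexFunctor']
      rw [hd (p + 1), hd p]
      exact ((hf p).linearMap_ker_eq).symm
    · exact ChainComplex.exactAt_succ_single_obj _ _

/-- `Tor` with the quotient vanishes when the image sequence is Koszul-regular. -/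
theorem isZero_tens_quot {B : Type u} [CommRing B] [Algebra A B] (f : Fin n → A) (hf : CAlgH.KoszulRegular.KReg f)
    (hf' : CAlgH.KoszulRegular.KReg fun i => algebraMap A B (f i)) (q : ℕ) :
    IsZero (((HTor16.tens (ModuleCat.of A B)).leftDerived (q + 1)).obj
      (ModuleCat.of A (A ⧸ Ideal.span (Set.range f)))) := by
  obtain ⟨P, hP⟩ := exists_resolution f hf
  rw [Iso.isZero_iff (P.isoLeftDerivedObj _ (q + 1)), HomologicalComplex.homologyFunctor_obj,
    ← HomologicalComplex.exactAt_iff_isZero_homology, hP,
    HomologicalComplex.exactAt_iff' _ (q + 2) (q + 1) q (by simp) (by simp),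
    ShortComplex.moduleCat_exact_iff_range_eq_ker]
  simp only [HomologicalComplex.sc', HomologicalComplex.shortComplexFunctor',
    Functor.mapHomologicalComplex_obj_d]
  erw [ChainComplex.of_d, ChainComplex.of_d]
  show LinearMap.range ((d f (q + 1)).lTensor B) = LinearMap.ker ((d f q).lTensor B)
  refine (LinearMap.exact_iff.1 ?_).symm
  have key : ∀ p, d (fun i => algebraMap A B (f i)) p ∘ (baseChangeEquiv (P := A) (R := B) (n := n) (p + 1)) =
      (baseChangeEquiv (P := A) (R := B) p) ∘ (d f p).lTensor B := fun p =>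
    congrArg DFunLike.coe (CAlgH.KoszulRegular.baseChange_comm (S := B) f p)
  intro z
  constructor
  · intro hz
    have h1 : d (fun i => algebraMap A B (f i)) q (baseChangeEquiv (q + 1) z) = 0 :=
      (congrFun (key q) z).trans ((congrArg _ hz).trans (map_zero _))
    obtain ⟨y, hy⟩ := (hf' q _).1 h1
    obtain ⟨w, rfl⟩ := (baseChangeEquiv (P := A) (R := B) (n := n) (q + 1 + 1)).surjective y
    exact ⟨w, (baseChangeEquiv (P := A) (R := B) (q + 1)).injective ((congrFun (key (q + 1)) w).symm.trans hy)⟩
  · rintro ⟨w, rfl⟩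
    refine (baseChangeEquiv (P := A) (R := B) q).injective ?_
    refine (congrFun (key q) _).symm.trans (Eq.trans ?_ (map_zero _).symm)
    refine (congrArg _ (congrFun (key (q + 1)) w).symm).trans ?_
    exact (hf' q _).2 ⟨_, rfl⟩

end Groth.Agent.CohDer1.TorKoszul
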